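import Cfsg.Agent.Fi23Rec.ChainDefs

/-! The checks along the chain. -/

set_option autoImplicit false
set_option Elab.async false
set_option maxRecDepth 100000

namespace Cfsg.Agent.Fi23Rec

theorem node0_ok : nodeOk [92] [0] nodeGens0 nodeStore0 = true := by decide +kernel
theorem node1_ok : nodeOk [92, 0] [2] nodeGens1 nodeStore1 = true := by decide +kernel
theorem node2_ok : nodeOk [92, 0, 2] [6] nodeGens2 nodeStore2 = true := by decide +kernel
theorem node3_ok : nodeOk [92, 0, 2, 6] [16] nodeGens3 nodeStore3 = true := by decide +kernel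
theorem node4_ok : nodeOk [92, 0, 2, 6, 16] [40, 308, 474, 676] nodeGens4 nodeStore4 = true := by decide +kernel
theorem node5_ok : nodeOk [92, 0, 2, 6, 16, 40] [88] nodeGens5 nodeStore5 = true := by decide +kernel
theorem node6_ok : nodeOk [92, 0, 2, 6, 16, 308] [88] nodeGens6 nodeStore6 = true := by decide +kernel
theorem node7_ok : nodeOk [92, 0, 2, 6, 16, 474] [154] nodeGens7 nodeStore7 = true := by decide +kernel
theorem node8_ok : nodeOk [92, 0, 2, 6, 16, 676] [] nodeGens8 nodeStore8 = true := by decide +kernel

theorem leaf0_ok : leafOk [92, 0, 2, 6, 16, 40, 88] leafStore0 leafReps0 = true := by decide +kernel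
theorem leaf1_ok : leafOk [92, 0, 2, 6, 16, 308, 88] leafStore1 leafReps1 = true := by decide +kernel
theorem leaf2_ok : leafOk [92, 0, 2, 6, 16, 474, 154] leafStore2 leafReps2 = true := by decide +kernel

end Cfsg.Agent.Fi23Rec
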