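import Cfsg.Agent.Fi22Out.Cent
import Cfsg.Agent.CosetCert.Pack
import Cfsg.Agent.Fi23Rec.ChainData

/-!
Checks on sets of 351 transpositions of Fi22 closed under their own conjugation that contain an
isolated member and a chain of six commuting with it.
-/

set_option autoImplicit false
set_option Elab.async false

namespace Cfsg.Agent.Fi23Rec

open Cfsg.Agent.CosetCert Cfsg.Agent.CosetCert.Fi22U62 Cfsg.Agent.Fi22Out

/-- The commutation pattern: member 0 commutes with all, members 1 to 6 form a chain. -/
def pb (i k : Nat) : Bool :=
  Nat.beq i 0 || Nat.beq k 0 || !(Nat.beq (i + 1) k || Nat.beq (k + 1) i)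

/-- A short word for a transposition: the letter if it is a generator. -/
noncomputable def swd (p : Nat) : List Nat :=
  match (List.range 9).find? fun k => Nat.beq (gp k) p with
  | some k => [k]
  | none => tw p

/-- An entry of a forest is valid: a root passes the test, another is moved to an entry of less
depth by one of the words. -/
noncomputable def walkOk (base : Nat → Bool) (gens : List (List Nat)) (S : Store) (q : Nat) : Bool :=
  force (get48 S q) fun v => Bool.rec (motive := fun _ => Bool)
    (force (v - 1) fun w => Bool.rec (motive := fun _ => Bool)
      (force (w / 4096) fun p => force (get48 S p) fun v' =>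
        Nat.blt p 3510 && !(Nat.beq v' 0) && Nat.blt ((v' - 1) % 64) (w % 64) &&
          Nat.blt (w / 64 % 64) gens.length &&
          Nat.beq (data.fwd (gens.getD (w / 64 % 64) []) q) p)
      (base q) (Nat.beq (w % 64) 0))
    true (Nat.beq v 0)

/-- A step of the chain: candidates for the next member are conjugate to a root by words fixing
the earlier members. -/
noncomputable def nodeOk (B roots : List Nat) (gens : List (List Nat)) (S : Store) : Bool :=
  (gens.all fun w => (w.all fun x => Nat.blt x 9) && B.all fun b => Nat.beq (data.fwd w b) b) &&
    allFrom (fun q => walkOk (fun q => roots.any fun r => Nat.beq q r) gens S q &&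
      (!(Nat.beq (get48 S q) 0) ||
        !((List.range B.length).all fun i => !(Nat.beq q (B.getD i 0)) &&
          (Nat.beq (data.fwd (swd (B.getD i 0)) q) q == pb i B.length)))) 0 3510

/-- The bit of a point. -/
noncomputable def has (mask p : Nat) : Bool := !(Nat.beq (Nat.land (Nat.shiftRight mask p) 1) 0)

/-- Grow a set of points by conjugating its points by its points, counting them. -/
noncomputable def derive : List (Nat × Nat) → Nat → Nat → Nat × Nat
  | [], mask, n => (mask, n)
  | e :: rest, mask, n => Bool.rec (motive := fun _ => Nat × Nat) (mask, n)
      (force (data.fwd (swd e.1) e.2) fun r => Bool.rec (motive := fun _ => Nat × Nat)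
        (force (Nat.lor mask (Nat.shiftLeft 1 r)) fun mask' => force (n + 1) fun n' => derive rest mask' n')
        (mask, n) (has mask r))
      (has mask e.1 && has mask e.2 && Nat.blt e.1 3510 && Nat.blt e.2 3510)

/-- The set of points of a list. -/
noncomputable def maskOf : List Nat → Nat
  | [] => 0
  | x :: l => Nat.lor (maskOf l) (Nat.shiftLeft 1 x)

/-- No repetition. -/
noncomputable def nodupB : List Nat → Bool
  | [] => true
  | x :: l => !(has (maskOf l) x) && nodupB l

/-- The generators of the two subgroups of index 14080. -/
def k8 : Bool → List Nat
  | false => [0, 1, 2, 3, 4, 5, 7, 8]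
  | true => [1, 2, 3, 4, 5, 6, 7, 8]

/-- A representative gives too many points, or the generators of one of the two subgroups. -/
noncomputable def repOk (B : List Nat) : Nat × List (Nat × Nat) × Option (List Nat × Bool) → Bool
  | (x, der, none) => nodupB (x :: B) && (Nat.blt x 3510 &&
      Nat.blt 351 (derive der (maskOf (x :: B)) (x :: B).length).2)
  | (x, der, some (w, m)) => (w.all fun y => Nat.blt y 9) && (nodupB (x :: B) && (Nat.blt x 3510 &&
      (k8 m).all fun k => has (derive der (maskOf (x :: B)) (x :: B).length).1 (data.fwd w (gp k))))

/-- A full chain: few points are free, the others lead to a representative. -/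
noncomputable def leafOk (B : List Nat) (S : Store)
    (reps : List (Nat × List (Nat × Nat) × Option (List Nat × Bool))) : Bool :=
  Nat.blt ((List.range 3510).filter fun q => Nat.beq (get48 S q) 0).length 351 &&
    (reps.all (repOk B) &&
      allFrom (fun q => walkOk (fun q => reps.any fun r => Nat.beq q r.1) (B.map swd) S q) 0 3510)

end Cfsg.Agent.Fi23Rec
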