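import Cfsg.Agent.Fi23Rec.ChainChecks

/-!
A set of 351 transpositions of Fi22, closed under conjugation by its members, that contains an
isolated member and a chain of six commuting with it, contains the generators of a conjugate of
one of the two standard subgroups of index 14080.
-/

set_option autoImplicit false
set_option Elab.async false

namespace Cfsg.Agent.Fi23Rec

open Cfsg.Agent.CosetCert Cfsg.Agent.CosetCert.Fi22U62 Cfsg.Agent.Fi22Out
open Cfsg.Agent.Fi22Trans (G t)

/-- The sets in question with their chain. -/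
structure Hyp (S : Set G) (p : Fin 7 → G) : Prop where
  cls : ∀ x ∈ S, IsConj t x
  conj : ∀ x ∈ S, ∀ y ∈ S, x * y * x ∈ S
  card : S.ncard = 351
  mem : ∀ i, p i ∈ S
  pat : ∀ i k : Fin 7, Commute (p i) (p k) ↔ pb i k = true
  inj : Function.Injective p

/-- The conclusion: eight generators of a conjugate of a standard subgroup. -/
def Concl (S : Set G) : Prop := ∃ (u : G) (m : Bool), ∀ k ∈ k8 m, u * gw [k] * u⁻¹ ∈ S

/-- The first members of a chain are at the listed points. -/
def First (B : List Nat) (p : Fin 7 → G) : Prop :=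
  ∀ i : Fin 7, i.val < B.length → p i = T (B.getD i 0)

theorem allFrom_at {f : Nat → Bool} (h : allFrom f 0 3510 = true) {q : Nat} (hq : q < 3510) :
    f q = true :=
  (allFrom_iff _ _ _).1 h q (Nat.zero_le _) (by omega)

theorem conj_fwd (A : Act) {w : List Nat} (hw : ∀ x ∈ w, x < 9) {q : Nat} (hq : q < 3510) :
    (gw w)⁻¹ * T q * gw w = T (data.fwd w q) ∧ data.fwd w q < 3510 := by
  have h := A.conj_T (gw w)⁻¹ (⟨q, hq⟩ : Fin data.n)
  have h2 : ((A.φ (gw w)⁻¹ ⟨q, hq⟩ : Fin data.n) : Nat) = data.fwd w q := by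
    rw [map_inv]; exact A.fwd hw _
  rw [inv_inv, h2] at h
  exact ⟨h, h2 ▸ (A.φ (gw w)⁻¹ ⟨q, hq⟩).2⟩

theorem T_sq {q : Nat} : T q * T q = 1 := by
  rw [T_eq]
  calc (gw (path q))⁻¹ * t * gw (path q) * ((gw (path q))⁻¹ * t * gw (path q))
      = (gw (path q))⁻¹ * (t * t) * gw (path q) := by group
    _ = 1 := by rw [Fi22Trans.t_sq]; group

theorem swd_spec (p : Nat) : (∀ x ∈ swd p, x < 9) ∧ gw (swd p) = T p := by
  unfold swd
  split
  · next k hk =>
    have h9 : k < 9 := List.mem_range.1 (List.mem_of_find?_eq_some hk)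
    have hp : gp k = p := Nat.eq_of_beq_eq_true (List.find?_some hk :)
    exact ⟨fun x hx => by rw [List.mem_singleton.1 hx]; exact h9, by rw [(gen_T h9).2, hp]⟩
  · exact ⟨tw_lt p, rfl⟩

theorem conj_swd (A : Act) {b q : Nat} (hq : q < 3510) :
    T b * T q * T b = T (data.fwd (swd b) q) ∧ data.fwd (swd b) q < 3510 := by
  obtain ⟨hlt, hgw⟩ := swd_spec b
  have h := conj_fwd A hlt hq
  rwa [hgw, inv_eq_of_mul_eq_one_right (T_sq (q := b))] at h

theorem walk_ind {base : Nat → Bool} {gens : List (List Nat)} {S : Store}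
    (ok : ∀ q, q < 3510 → walkOk base gens S q = true) (P : Nat → Prop)
    (hbase : ∀ q, q < 3510 → base q = true → P q)
    (hstep : ∀ w ∈ gens, ∀ q, q < 3510 → P (data.fwd w q) → P q) :
    ∀ q, q < 3510 → get48 S q ≠ 0 → P q := by
  suffices ∀ d q, q < 3510 → get48 S q ≠ 0 → (get48 S q - 1) % 64 = d → P q from
    fun q hq h0 => this _ q hq h0 rfl
  intro d
  induction d using Nat.strong_induction_on with
  | _ d ih =>
    intro q hq h0 hd
    have h := ok q hq
    simp only [walkOk, force_eq] at h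
    have hv : Nat.beq (get48 S q) 0 = false :=
      Bool.eq_false_iff.2 fun hh => h0 (Nat.eq_of_beq_eq_true hh)
    rw [hv] at h
    cases hz : Nat.beq ((get48 S q - 1) % 64) 0 with
    | true =>
      rw [hz] at h
      exact hbase q hq h
    | false =>
      rw [hz] at h
      simp only [Bool.and_eq_true, Bool.not_eq_true', Nat.blt_eq] at h
      obtain ⟨⟨⟨⟨hp, hv'⟩, hdep⟩, hg⟩, he⟩ := h
      have hne : get48 S ((get48 S q - 1) / 4096) ≠ 0 := fun hh => by
        rw [hh] at hv'; exact Bool.noConfusion hv'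
      have := ih _ (hd ▸ hdep) _ hp hne rfl
      refine hstep _ ?_ q hq (by rwa [Nat.eq_of_beq_eq_true he])
      rw [List.getD_eq_getElem _ _ hg]
      exact List.getElem_mem _

theorem Hyp.move {S : Set G} {p : Fin 7 → G} (h : Hyp S p) (u : G) :
    Hyp ((fun x => u * x * u⁻¹) '' S) (fun i => u * p i * u⁻¹) := by
  have hinj : Function.Injective fun x => u * x * u⁻¹ :=
    fun x y e => mul_left_cancel (mul_right_cancel e)
  refine ⟨?_, ?_, ?_, fun i => ⟨_, h.mem i, rfl⟩, fun i k => ?_, hinj.comp h.inj⟩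
  · rintro - ⟨x, hx, rfl⟩
    exact (h.cls x hx).trans (isConj_iff.2 ⟨u, rfl⟩)
  · rintro - ⟨x, hx, rfl⟩ - ⟨y, hy, rfl⟩
    exact ⟨x * y * x, h.conj x hx y hy, by group⟩
  · rw [Set.ncard_image_of_injective _ hinj, h.card]
  · rw [← h.pat i k]
    exact Commute.conj_iff u

theorem Concl.back {S : Set G} {u : G} (h : Concl ((fun x => u * x * u⁻¹) '' S)) : Concl S := by
  obtain ⟨v, m, hv⟩ := h
  refine ⟨u⁻¹ * v, m, fun k hk => ?_⟩
  obtain ⟨x, hx, hxe⟩ := hv k hk
  have e : u⁻¹ * v * gw [k] * (u⁻¹ * v)⁻¹ = x := by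
    calc u⁻¹ * v * gw [k] * (u⁻¹ * v)⁻¹ = u⁻¹ * (v * gw [k] * v⁻¹) * u := by group
      _ = u⁻¹ * (u * x * u⁻¹) * u := by rw [← hxe]
      _ = x := by group
  rwa [e]

theorem advance {B roots : List Nat} {gens : List (List Nat)} {st : Store}
    (ok : nodeOk B roots gens st = true) (hB : ∀ b ∈ B, b < 3510) (h7 : B.length < 7)
    (hr : ∀ r ∈ roots, r < 3510)
    (next : ∀ r ∈ roots, ∀ S p, Hyp S p → First (B ++ [r]) p → Concl S) :
    ∀ S p, Hyp S p → First B p → Concl S := by
  intro S p hS hF
  obtain ⟨A⟩ := nonempty_act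
  rw [nodeOk, Bool.and_eq_true] at ok
  obtain ⟨hgens, hall⟩ := ok
  have hg : ∀ w ∈ gens, (∀ x ∈ w, x < 9) ∧ ∀ b ∈ B, data.fwd w b = b := by
    intro w hw
    have h := List.all_eq_true.1 hgens w hw
    rw [Bool.and_eq_true] at h
    exact ⟨fun x hx => Nat.ble_eq.mp (List.all_eq_true.1 h.1 x hx),
      fun b hb => Nat.eq_of_beq_eq_true (List.all_eq_true.1 h.2 b hb)⟩
  have hwalk : ∀ q, q < 3510 →
      walkOk (fun q => roots.any fun r => Nat.beq q r) gens st q = true := fun q hq => by
    have := allFrom_at hall hq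
    rw [Bool.and_eq_true] at this
    exact this.1
  let P : Nat → Prop := fun q => ∃ u : G, ∃ r ∈ roots, u * T q * u⁻¹ = T r ∧
    ∀ b ∈ B, u * T b * u⁻¹ = T b
  have hP : ∀ q, q < 3510 → get48 st q ≠ 0 → P q := by
    refine walk_ind hwalk P (fun q _ hb => ?_) fun w hw q hq hP => ?_
    · obtain ⟨r, hr, he⟩ := List.any_eq_true.1 hb
      exact ⟨1, r, hr, by rw [Nat.eq_of_beq_eq_true he]; group, fun b _ => by group⟩
    · obtain ⟨u, r, hr, hur, hub⟩ := hP
      obtain ⟨hw9, hwB⟩ := hg w hw
      refine ⟨u * (gw w)⁻¹, r, hr, ?_, fun b hb => ?_⟩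
      · rw [← hur, ← (conj_fwd A hw9 hq).1]; group
      · conv_rhs => rw [← hub b hb, ← hwB b hb, ← (conj_fwd A hw9 (hB b hb)).1]
        group
  -- the next member
  obtain ⟨q, hq⟩ := A.exists_point (hS.cls _ (hS.mem ⟨B.length, h7⟩))
  have hmatch : ((List.range B.length).all fun i => !(Nat.beq q (B.getD i 0)) &&
      (Nat.beq (data.fwd (swd (B.getD i 0)) q) q == pb i B.length)) = true := by
    rw [List.all_eq_true]
    intro i hi
    rw [List.mem_range] at hi
    have hpi : p ⟨i, by omega⟩ = T (B.getD i 0) := hF ⟨i, by omega⟩ hi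
    rw [Bool.and_eq_true, Bool.not_eq_true', beq_iff_eq]
    constructor
    · refine Bool.eq_false_iff.2 fun he => ?_
      have : p ⟨B.length, h7⟩ = p ⟨i, by omega⟩ := by rw [hq, hpi, Nat.eq_of_beq_eq_true he]
      exact Nat.ne_of_lt hi (congrArg Fin.val (hS.inj this)).symm
    · obtain ⟨hlt, hgw⟩ := swd_spec (B.getD i 0)
      rw [Bool.eq_iff_iff, ← hS.pat ⟨i, by omega⟩ ⟨B.length, h7⟩, hpi, hq]
      have h1 := A.conj_T (T (B.getD i 0)) q
      have h2 : ∀ c : Fin data.n, A.φ (T (B.getD i 0)) c = c ↔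
          data.fwd (swd (B.getD i 0)) c = c := fun c => by rw [← hgw]; exact A.apply_fix hlt c
      constructor
      · intro he
        rw [(h2 q).2 (Nat.eq_of_beq_eq_true he)] at h1
        exact mul_inv_eq_iff_eq_mul.1 h1
      · intro he
        have : A.φ (T (B.getD i 0)) q = q := A.T_inj (by rw [← h1, he.eq, mul_inv_cancel_right])
        rw [(h2 q).1 this]
        exact Nat.beq_refl _
  have hne : get48 st q ≠ 0 := by
    intro h0
    have h := allFrom_at hall q.2
    rw [Bool.and_eq_true, hmatch, h0] at h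
    exact Bool.noConfusion h.2
  obtain ⟨u, r, hrm, hur, hub⟩ := hP q q.2 hne
  refine Concl.back (next r hrm _ _ (hS.move u) fun i hi => ?_)
  rw [List.length_append, List.length_singleton] at hi
  rcases Nat.lt_or_ge i.val B.length with h | h
  · rw [List.getD_append _ _ _ _ h, hF i h]
    exact hub _ (by rw [List.getD_eq_getElem _ _ h]; exact List.getElem_mem _)
  · have hiv : i.val = B.length := by omega
    rw [List.getD_append_right _ _ _ _ h, hiv, Nat.sub_self,
      show i = ⟨B.length, h7⟩ from Fin.ext hiv, hq]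
    exact hur

/-- The points of a set of transpositions that a bit mask records, counted. -/
def Tracks (S : Set G) (mask n : Nat) : Prop :=
  ∃ l : List Nat, l.Nodup ∧ l.length = n ∧ (∀ q ∈ l, q < 3510 ∧ T q ∈ S) ∧
    ∀ q, has mask q = true ↔ q ∈ l

theorem has_iff (mask p : Nat) : has mask p = mask.testBit p := by
  rw [has, Nat.testBit_eq_decide_div_mod_eq]
  show (!(Nat.beq (mask >>> p &&& 1) 0)) = _
  rw [Nat.and_one_is_mod, Nat.shiftRight_eq_div_pow]
  rcases Nat.mod_two_eq_zero_or_one (mask / 2 ^ p) with h | h <;> rw [h] <;> rfl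

theorem has_lor (mask r q : Nat) :
    has (Nat.lor mask (Nat.shiftLeft 1 r)) q = (has mask q || decide (r = q)) := by
  rw [has_iff, has_iff]
  show (mask ||| 1 <<< r).testBit q = _
  rw [Nat.testBit_or, Nat.one_shiftLeft, Nat.testBit_two_pow]

theorem has_maskOf : ∀ (l : List Nat) (q : Nat), has (maskOf l) q = true ↔ q ∈ l
  | [], q => by simp [maskOf, has_iff]
  | x :: l, q => by
    rw [maskOf, has_lor, Bool.or_eq_true, decide_eq_true_iff, has_maskOf l q, List.mem_cons]
    exact ⟨fun h => h.symm.imp_left Eq.symm, fun h => (h.imp_left Eq.symm).symm⟩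

theorem nodupB_iff : ∀ l : List Nat, nodupB l = true → l.Nodup
  | [], _ => List.nodup_nil
  | x :: l, h => by
    rw [nodupB, Bool.and_eq_true, Bool.not_eq_true'] at h
    exact List.nodup_cons.2 ⟨fun hm => by rw [(has_maskOf l x).2 hm] at h; exact Bool.noConfusion h.1,
      nodupB_iff l h.2⟩

theorem tracks_derive (A : Act) {S : Set G} (hS : ∀ x ∈ S, ∀ y ∈ S, x * y * x ∈ S) :
    ∀ (der : List (Nat × Nat)) (mask n : Nat), Tracks S mask n →
      Tracks S (derive der mask n).1 (derive der mask n).2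
  | [], _, _, h => h
  | e :: rest, mask, n, h => by
    simp only [derive, force_eq]
    cases hc : has mask e.1 && has mask e.2 && Nat.blt e.1 3510 && Nat.blt e.2 3510 with
    | false => exact h
    | true =>
      cases hr : has mask (data.fwd (swd e.1) e.2) with
      | true => exact h
      | false =>
        refine tracks_derive A hS rest _ _ ?_
        simp only [Bool.and_eq_true, Nat.blt_eq] at hc
        obtain ⟨⟨⟨h1, h2⟩, -⟩, -⟩ := hc
        obtain ⟨l, hnd, hlen, hl, hm⟩ := h
        obtain ⟨-, hm1⟩ := hl _ ((hm _).1 h1)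
        obtain ⟨hlt2, hm2⟩ := hl _ ((hm _).1 h2)
        obtain ⟨hconj, hlt⟩ := conj_swd A (b := e.1) hlt2
        have hin : data.fwd (swd e.1) e.2 ∉ l := fun hh => by
          rw [(hm _).2 hh] at hr; exact Bool.noConfusion hr
        refine ⟨data.fwd (swd e.1) e.2 :: l, List.nodup_cons.2 ⟨hin, hnd⟩, by simp [hlen], ?_, ?_⟩
        · intro q hq
          rcases List.mem_cons.1 hq with rfl | hq
          · exact ⟨hlt, hconj ▸ hS _ hm1 _ hm2⟩
          · exact hl q hq
        · intro q
          rw [has_lor, Bool.or_eq_true, decide_eq_true_iff, hm q, List.mem_cons]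
          exact ⟨fun h => h.symm.imp_left Eq.symm, fun h => (h.imp_left Eq.symm).symm⟩

theorem leaf {B : List Nat} {st : Store}
    {reps : List (Nat × List (Nat × Nat) × Option (List Nat × Bool))} (ok : leafOk B st reps = true)
    (hB : ∀ b ∈ B, b < 3510) (h7 : B.length = 7) :
    ∀ S p, Hyp S p → First B p → Concl S := by
  classical
  intro S p hS hF
  obtain ⟨A⟩ := nonempty_act
  simp only [leafOk, Bool.and_eq_true] at ok
  obtain ⟨hfree, hreps, hall⟩ := ok
  have hBS : ∀ b ∈ B, T b ∈ S := by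
    intro b hb
    obtain ⟨i, hi, rfl⟩ := List.getElem_of_mem hb
    have h := hS.mem ⟨i, by omega⟩
    rwa [hF ⟨i, by omega⟩ hi, List.getD_eq_getElem _ _ hi] at h
  have hwalk := walk_ind (fun q hq => allFrom_at hall hq)
    (fun q => T q ∈ S → ∃ r ∈ reps, T r.1 ∈ S)
    (fun q _ hb hq => by
      obtain ⟨r, hr, he⟩ := List.any_eq_true.1 hb
      exact ⟨r, hr, Nat.eq_of_beq_eq_true he ▸ hq⟩)
    (fun w hw q hq hP hm => by
      obtain ⟨b, hb, rfl⟩ := List.mem_map.1 hw
      exact hP ((conj_swd A (b := b) hq).1 ▸ hS.conj _ (hBS b hb) _ hm))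
  obtain ⟨r, hr, hrS⟩ : ∃ r ∈ reps, T r.1 ∈ S := by
    by_contra hcon
    have hsub : S ⊆ ((((List.range 3510).filter fun q => Nat.beq (get48 st q) 0).map T).toFinset :
        Set G) := by
      intro x hx
      obtain ⟨q, rfl⟩ := A.exists_point (hS.cls x hx)
      rw [List.coe_toFinset]
      refine List.mem_map.2 ⟨q, List.mem_filter.2 ⟨List.mem_range.2 q.2, ?_⟩, rfl⟩
      by_contra h0
      exact hcon (hwalk q q.2 (fun e => h0 (by rw [e]; rfl)) hx)
    have h := Set.ncard_le_ncard hsub (Finset.finite_toSet _)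
    rw [Set.ncard_coe_finset, hS.card] at h
    have := (h.trans (List.toFinset_card_le _)).trans_eq (List.length_map _)
    have := Nat.ble_eq.mp hfree
    omega
  obtain ⟨x, der, kind⟩ := r
  have hok := List.all_eq_true.1 hreps _ hr
  have hbase : nodupB (x :: B) = true → x < 3510 →
      Tracks S (derive der (maskOf (x :: B)) (x :: B).length).1
        (derive der (maskOf (x :: B)) (x :: B).length).2 := fun hnd hx =>
    tracks_derive A hS.conj der _ _ ⟨x :: B, nodupB_iff _ hnd, rfl, fun q hq => by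
      rcases List.mem_cons.1 hq with rfl | hq
      exacts [⟨hx, hrS⟩, ⟨hB q hq, hBS q hq⟩], fun q => has_maskOf _ q⟩
  cases kind with
  | none =>
    exfalso
    simp only [repOk, Bool.and_eq_true, Nat.blt_eq] at hok
    obtain ⟨hnd, hx, hn⟩ := hok
    obtain ⟨l, hl, hlen, hls, -⟩ := hbase hnd hx
    have hmap : (l.map T).Nodup := by
      refine List.Nodup.map_on (fun a ha b hb e => ?_) hl
      exact congrArg Fin.val (A.T_inj (p := ⟨a, (hls a ha).1⟩) (q := ⟨b, (hls b hb).1⟩) e)
    have hsub : ((l.map T).toFinset : Set G) ⊆ S := by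
      rw [List.coe_toFinset]
      intro y hy
      obtain ⟨q, hq, rfl⟩ := List.mem_map.1 hy
      exact (hls q hq).2
    have hfin : S.Finite := Set.finite_of_ncard_ne_zero (by rw [hS.card]; norm_num)
    have h := Set.ncard_le_ncard hsub hfin
    rw [Set.ncard_coe_finset, List.toFinset_card_of_nodup hmap, List.length_map, hS.card, hlen] at h
    omega
  | some wm =>
    obtain ⟨w, m⟩ := wm
    simp only [repOk, Bool.and_eq_true, Nat.blt_eq, List.all_eq_true] at hok
    obtain ⟨hw, hnd, hx, hk8⟩ := hok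
    obtain ⟨l, -, -, hls, hm⟩ := hbase hnd hx
    refine ⟨(gw w)⁻¹, m, fun k hk => ?_⟩
    have hk9 : k < 9 := by
      have h : ∀ m, ∀ k ∈ k8 m, k < 9 := by decide
      exact h m k hk
    obtain ⟨hlt, hT⟩ := gen_T hk9
    rw [hT, inv_inv, (conj_fwd A hw hlt).1]
    exact (hls _ ((hm _).1 (hk8 k hk))).2

/-- The statement on chains with arbitrary points. -/
theorem concl_of_hyp {S : Set G} {p : Fin 7 → G} (h : Hyp S p) : Concl S := by
  obtain ⟨A⟩ := nonempty_act
  obtain ⟨z, hz⟩ := isConj_iff.1 ((h.cls _ (h.mem 0)).symm.trans (Act.isConj_T 92))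
  refine Concl.back (u := z) ?_
  have hF : First [92] (fun i => z * p i * z⁻¹) := by
    intro i hi
    simp only [List.length_singleton] at hi
    have h0 : i = 0 := Fin.ext (by show i.val = 0; omega)
    subst h0
    exact hz
  refine advance node0_ok (by decide) (by decide) (by decide) ?_ _ _ (h.move z) hF
  refine List.forall_mem_singleton.2 ?_
  refine advance node1_ok (by decide) (by decide) (by decide) (List.forall_mem_singleton.2 ?_)
  refine advance node2_ok (by decide) (by decide) (by decide) (List.forall_mem_singleton.2 ?_)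
  refine advance node3_ok (by decide) (by decide) (by decide) (List.forall_mem_singleton.2 ?_)
  refine advance node4_ok (by decide) (by decide) (by decide) ?_
  simp only [List.mem_cons, List.not_mem_nil, or_false]
  rintro r (rfl | rfl | rfl | rfl)
  · refine advance node5_ok (by decide) (by decide) (by decide) (List.forall_mem_singleton.2 ?_)
    exact leaf leaf0_ok (by decide) rfl
  · refine advance node6_ok (by decide) (by decide) (by decide) (List.forall_mem_singleton.2 ?_)
    exact leaf leaf1_ok (by decide) rfl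
  · refine advance node7_ok (by decide) (by decide) (by decide) (List.forall_mem_singleton.2 ?_)
    exact leaf leaf2_ok (by decide) rfl
  · exact advance node8_ok (by decide) (by decide) (by decide) (by simp)

end Cfsg.Agent.Fi23Rec
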